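import Groth.Agent.AbDual95.Additive
import Groth.Agent.SymPhi99.Rel

/-!
A Poincaré class along powers of the identity.
-/

set_option autoImplicit false
set_option maxSynthPendingDepth 6
set_option linter.style.haveILetI false
set_option backward.isDefEq.respectTransparency.types false

noncomputable section

universe u

open CategoryTheory CategoryTheory.Limits MonoidalCategory CartesianMonoidalCategory MonObj GrpObj AlgebraicGeometry
open Groth.Agent.FGA29 Groth.Agent.H98PicRel Groth.Agent.SymPhi99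

namespace Groth.Agent.AbDual95

variable {S : Scheme.{u}} {A At : Over S} [GrpObj A] [IsProper A.hom] [Smooth A.hom] [GeometricallyConnected A.hom]
  [GrpObj At] {φ : ∀ T : Over S, PicF.Cl (PicF.XT A.hom T) → (T ⟶ At)}
  (hφ : AbDual.IsDualAV Scheme.fppfPrecoverage A At φ)

include hφ in
/-- Rigidified classes with the same point of the dual are equal. -/
theorem eq_of_phi_eq_rigid {T : Over S} {c c' : PicF.Cl (PicF.XT A.hom T)} (hc : AbDual.IsPicZeroCl A.hom T c)
    (hc' : AbDual.IsPicZeroCl A.hom T c')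
    (e : PicF.pullCl (PicF.secT A.hom η[A].left (Over.w η[A]) T) c = 1)
    (e' : PicF.pullCl (PicF.secT A.hom η[A].left (Over.w η[A]) T) c' = 1) (h : φ T c = φ T c') : c = c' := by
  obtain ⟨R, hR, hloc⟩ := hφ.relPic.locallyInjective T c c' hc hc' h
  exact SymPhi99.eq_of_locally A.hom η[A].left (Over.w η[A]) T (appTop_bijective_abScheme A T)
    (isInvertibleCl_of_picZero _ hc) (isInvertibleCl_of_picZero _ hc') (e.trans e'.symm) hR hloc

variable {ξ : PicF.Cl (PicF.XT A.hom At)} (hξ : AbDual.IsPoincareCl A At φ ξ)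

include hξ in
theorem rig_XTmap (g : At ⟶ At) :
    PicF.pullCl (PicF.secT A.hom η[A].left (Over.w η[A]) At) (PicF.pullCl (PicF.XTmap A.hom g) ξ) = 1 := by
  have e : PicF.secT A.hom η[A].left (Over.w η[A]) At ≫ PicF.XTmap A.hom g =
      g.left ≫ PicF.secT A.hom η[A].left (Over.w η[A]) At := by
    refine pullback.hom_ext ?_ ?_
    · simp only [PicF.secT, Category.assoc, XTmap_fst, pullback.lift_fst]
      rw [← Category.assoc, Over.w g]
    · simp only [PicF.secT, Category.assoc, XTmap_snd, pullback.lift_snd, pullback.lift_snd_assoc,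
        Category.id_comp, Category.comp_id]
  rw [← pullCl_comp, e, pullCl_comp, show PicF.pullCl _ ξ = 1 from hξ.2.2, SymPhi99.pullCl_one]

theorem secT_bcMap (f : A ⟶ A) (hf : η[A] ≫ f = η[A]) :
    PicF.secT A.hom η[A].left (Over.w η[A]) At ≫ AbDual.bcMap f At =
      PicF.secT A.hom η[A].left (Over.w η[A]) At := by
  refine pullback.hom_ext ?_ ?_
  · simp only [PicF.secT, AbDual.bcMap, Category.assoc, pullback.lift_fst, pullback.lift_fst_assoc]
    rw [← Over.comp_left, hf]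
  · simp only [PicF.secT, AbDual.bcMap, Category.assoc, pullback.lift_snd, pullback.lift_snd_assoc,
      Category.id_comp, Category.comp_id]

omit [IsProper A.hom] [Smooth A.hom] [GeometricallyConnected A.hom] in
theorem eta_pow (n : ℕ) : η[A] ≫ (𝟙 A) ^ n = η[A] := by
  have h1 : η[A] = (1 : 𝟙_ (Over S) ⟶ A) := by
    rw [Hom.one_def, toUnit_unique (toUnit _) (𝟙 _), Category.id_comp]
  rw [MonObj.comp_pow, Category.comp_id, h1, one_pow]

omit [IsProper A.hom] [Smooth A.hom] [GeometricallyConnected A.hom] in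
theorem eta_inv : η[A] ≫ (𝟙 A)⁻¹ = η[A] := by
  have h1 : η[A] = (1 : 𝟙_ (Over S) ⟶ A) := by
    rw [Hom.one_def, toUnit_unique (toUnit _) (𝟙 _), Category.id_comp]
  rw [GrpObj.comp_inv, Category.comp_id, h1, inv_one]

include hξ in
theorem pull_pow (n : ℕ) : PicF.pullCl (AbDual.bcMap ((𝟙 A) ^ n) At) ξ = ξ ^ n := by
  induction n with
  | zero => rw [pow_zero, pow_zero]; exact pull_one_rigid At hξ.1 hξ.2.2
  | succ m ih => rw [pow_succ, pow_succ, pull_mul_rigid _ _ At hξ.1 hξ.2.2, ih, bcMap_id, SymPhi99.pullCl_id]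

include hξ hφ in
theorem phi_pull_pow (n : ℕ) : φ At (PicF.pullCl (AbDual.bcMap ((𝟙 A) ^ n) At) ξ) = (𝟙 At) ^ n := by
  induction n with
  | zero => rw [pow_zero, pow_zero]; exact phi_pull_one hφ At hξ.1
  | succ m ih => rw [pow_succ, pow_succ, phi_pull_mul hφ _ _ At hξ.1, ih, bcMap_id, SymPhi99.pullCl_id, hξ.2.1]

include hξ hφ in
theorem XTmap_eq_bcMap (g : At ⟶ At) (f : A ⟶ A) (hf : η[A] ≫ f = η[A])
    (h : φ At (PicF.pullCl (AbDual.bcMap f At) ξ) = g) :
    PicF.pullCl (PicF.XTmap A.hom g) ξ = PicF.pullCl (AbDual.bcMap f At) ξ := by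
  refine eq_of_phi_eq_rigid hφ (SymPhi99.isPicZeroCl_pullCl A.hom g hξ.1) (AbDual95.isPicZeroCl_bcMap f At hξ.1)
    (rig_XTmap hξ g) ?_ ?_
  · rw [← pullCl_comp, secT_bcMap f hf]
    exact hξ.2.2
  · rw [h, hφ.relPic.natural _ _ g ξ hξ.1, hξ.2.1, Category.comp_id]

include hξ hφ in
theorem poincare_pow (n : ℕ) : PicF.pullCl (PicF.XTmap A.hom ((𝟙 At) ^ n)) ξ = ξ ^ n := by
  rw [XTmap_eq_bcMap hφ hξ _ _ (eta_pow n) (phi_pull_pow hφ hξ n), pull_pow hξ n]

include hξ in
theorem pull_inv_mul : PicF.pullCl (AbDual.bcMap (𝟙 A)⁻¹ At) ξ * ξ = 1 := by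
  have h := pull_mul_rigid (𝟙 A)⁻¹ (𝟙 A) At hξ.1 hξ.2.2
  rw [inv_mul_cancel, pull_one_rigid At hξ.1 hξ.2.2, bcMap_id, SymPhi99.pullCl_id] at h
  exact h.symm

include hξ hφ in
theorem poincare_inv_mul : PicF.pullCl (PicF.XTmap A.hom (𝟙 At)⁻¹) ξ * ξ = 1 := by
  rw [XTmap_eq_bcMap hφ hξ _ _ eta_inv ?_, pull_inv_mul hξ]
  have h := phi_pull_mul hφ (𝟙 A)⁻¹ (𝟙 A) At hξ.1
  rw [inv_mul_cancel, phi_pull_one hφ At hξ.1, bcMap_id, SymPhi99.pullCl_id, hξ.2.1] at h
  exact eq_inv_of_mul_eq_one_left h.symm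

end Groth.Agent.AbDual95
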